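/-
Unbounded complexes are quasi-isomorphic to complexes with terms in a class of finite coresolution dimension.
-/
import Mathlib

universe w v u

open CategoryTheory CategoryTheory.Limits CochainComplex HomComplex

namespace Groth.Agent.ClassUnb

variable {A : Type u} [Category.{v} A] [Abelian A]

section Steps
variable {P : ObjectProperty A}
  (h1 : ∀ X : A, ∃ (Y : A) (i : X ⟶ Y), P Y ∧ Mono i)
  (h2 : ∀ S : ShortComplex A, S.ShortExact → P S.X₁ → (P S.X₂ ↔ P S.X₃))

include h1 h2 in
theorem prop_of_isZero {Z : A} (hZ : IsZero Z) : P Z := by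
  obtain ⟨Y, i, hY, -⟩ := h1 Z
  have := (ShortComplex.Splitting.mk (S := ShortComplex.mk (𝟙 Y) (0 : Y ⟶ Z) comp_zero) (𝟙 Y) 0
    (by simp) (hZ.eq_of_src _ _) (by simp)).shortExact
  exact ((h2 _ this hY).1 hY)

include h1 h2 in
theorem prop_of_iso {X Y : A} (e : X ≅ Y) (hX : P X) : P Y := by
  open ZeroObject in
  have := (ShortComplex.Splitting.mk (S := ShortComplex.mk e.hom (0 : Y ⟶ (0 : A)) comp_zero) e.inv 0
    (by simp) ((isZero_zero A).eq_of_src _ _) (by simp)).shortExact
  exact (h2 _ this hX).2 (prop_of_isZero h1 h2 (isZero_zero A))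

include h2 in
theorem prop_biprod {X Y : A} (hX : P X) (hY : P Y) : P (X ⊞ Y) :=
  (h2 _ (ShortComplex.Splitting.ofHasBinaryBiproduct X Y).shortExact hX).2 hY

include h1 h2 in
/-- every complex embeds termwise into a complex with terms in the class -/
theorem exists_mono_complex (X : CochainComplex A ℤ) :
    ∃ (J : CochainComplex A ℤ) (f : X ⟶ J), (∀ k, P (J.X k)) ∧ ∀ k, Mono (f.f k) := by
  choose Y i hY hi using fun k => h1 (X.X k)
  let J : CochainComplex A ℤ := CochainComplex.of (fun k => Y k ⊞ Y (k + 1))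
    (fun k => biprod.snd ≫ biprod.inl) (fun k => by simp)
  have hJd : ∀ k, J.d k (k + 1) = biprod.snd ≫ biprod.inl := fun k => by simp [J]
  refine ⟨J, { f := fun k => biprod.lift (i k) (X.d k (k + 1) ≫ i (k + 1))
               comm' := fun a b (hab : a + 1 = b) => ?_ },
    fun k => prop_biprod h2 (hY _) (hY _), fun k => ?_⟩
  · subst hab
    rw [hJd]
    show biprod.lift (i a) (X.d a (a + 1) ≫ i (a + 1)) ≫ biprod.snd ≫ biprod.inl =
      X.d a (a + 1) ≫ biprod.lift (i (a + 1)) (X.d (a + 1) (a + 1 + 1) ≫ i (a + 1 + 1))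
    apply biprod.hom_ext <;> simp
  · have := hi k
    exact mono_of_mono_fac (h := i k) (biprod.lift_fst _ _)

include h1 h2 in
/-- the inductive step -/
theorem exists_step [HasDerivedCategory.{w} A] (S : ShortComplex (CochainComplex A ℤ)) (hS : S.ShortExact)
    (hJ : ∀ k, P (S.X₂.X k)) {C' : CochainComplex A ℤ} (q : S.X₃ ⟶ C') (hq : QuasiIso q)
    (hC' : ∀ k, P (C'.X k)) :
    ∃ (I : CochainComplex A ℤ) (f : S.X₁ ⟶ I), QuasiIso f ∧ ∀ k, P (I.X k) := by
  let g : S.X₂ ⟶ C' := S.g ≫ q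
  have comm : mappingCone.inr S.f ≫ mappingCone.descShortComplex S ≫ q = 𝟙 _ ≫ g := by simp [g]
  let μ := mappingCone.map (mappingCone.inr S.f) g (𝟙 S.X₂) (mappingCone.descShortComplex S ≫ q) comm
  have := mappingCone.quasiIso_descShortComplex hS
  have hμ : QuasiIso μ := by
    rw [← DerivedCategory.isIso_Q_map_iff_quasiIso]
    exact Pretriangulated.isIso₃_of_isIso₁₂
      (DerivedCategory.Q.mapTriangle.map
        (mappingCone.triangleMap _ g (𝟙 S.X₂) (mappingCone.descShortComplex S ≫ q) comm))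
      (DerivedCategory.mappingCone_triangle_distinguished (mappingCone.inr S.f))
      (DerivedCategory.mappingCone_triangle_distinguished g)
      (inferInstanceAs (IsIso (DerivedCategory.Q.map (𝟙 S.X₂))))
      ((DerivedCategory.isIso_Q_map_iff_quasiIso (φ := mappingCone.descShortComplex S ≫ q)).2 inferInstance)
  let Φ : S.X₁⟦(1 : ℤ)⟧ ⟶ mappingCone g := (mappingCone.rotateHomotopyEquiv S.f).hom ≫ μ
  have hΦ : QuasiIso Φ := quasiIso_comp (mappingCone.rotateHomotopyEquiv S.f).hom μ
  let σ := shiftFunctorCompIsoId (CochainComplex A ℤ) (1 : ℤ) (-1) (by omega)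
  refine ⟨(mappingCone g)⟦(-1 : ℤ)⟧, σ.inv.app S.X₁ ≫ Φ⟦(-1 : ℤ)⟧', ?_, fun k => ?_⟩
  · have : QuasiIso (Φ⟦(-1 : ℤ)⟧') := by
      rw [← DerivedCategory.isIso_Q_map_iff_quasiIso]
      have : IsIso (DerivedCategory.Q.map Φ) := (DerivedCategory.isIso_Q_map_iff_quasiIso (φ := Φ)).2 hΦ
      exact (NatIso.isIso_map_iff (DerivedCategory.Q.commShiftIso (-1 : ℤ)) Φ).2
        (inferInstanceAs (IsIso ((DerivedCategory.Q.map Φ)⟦(-1 : ℤ)⟧')))
    exact quasiIso_comp (σ.inv.app S.X₁) (Φ⟦(-1 : ℤ)⟧')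
  · exact prop_of_iso h1 h2 (HomologicalComplex.homotopyCofiber.XIsoBiprod g (k + -1) (k + -1 + 1) rfl).symm
      (prop_biprod h2 (hJ _) (hC' _))

include h1 h2 in
theorem exists_unbounded (n : ℕ) (hn : 1 ≤ n)
    (h3 : ∀ K : CochainComplex A ℕ, (∀ i : ℕ, 1 ≤ i → i ≤ n → K.ExactAt i) → (∀ i : ℕ, n < i → IsZero (K.X i)) →
      Epi (K.d (n - 1) n) → (∀ i : ℕ, i < n → P (K.X i)) → P (K.X n))
    (X : CochainComplex A ℤ) :
    ∃ (I : CochainComplex A ℤ) (f : X ⟶ I), QuasiIso f ∧ ∀ k : ℤ, P (I.X k) := by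
  letI : HasDerivedCategory A := HasDerivedCategory.standard A
  choose J ι hJ hι using exists_mono_complex h1 h2
  let J' : ℕ → CochainComplex A ℤ → CochainComplex A ℤ := fun j Y => if j < n then J Y else Y
  have hmor : ∀ j Y, ∃ f : Y ⟶ J' j Y, (∀ k, Mono (f.f k)) ∧ (¬ j < n → IsIso f) := fun j Y => by
    by_cases hj : j < n
    · exact ⟨ι Y ≫ eqToHom (if_pos hj).symm,
        fun k => by have := hι Y k; rw [HomologicalComplex.comp_f]; infer_instance, fun h => absurd hj h⟩
    · exact ⟨eqToHom (if_neg hj).symm, fun k => inferInstance, fun _ => inferInstance⟩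
  choose ι' hι' hι'' using hmor
  let seq : ℕ → CochainComplex A ℤ := fun j => Nat.rec (motive := fun _ => CochainComplex A ℤ) X (fun j Y => cokernel (ι' j Y)) j
  let S : ℕ → ShortComplex (CochainComplex A ℤ) := fun j =>
    ShortComplex.mk (X₁ := seq j) (X₂ := J' j (seq j)) (X₃ := cokernel (ι' j (seq j))) (ι' j (seq j)) (cokernel.π (ι' j (seq j))) (cokernel.condition (ι' j (seq j)))
  have hS : ∀ j, (S j).ShortExact := fun j => by
    have : Mono (ι' j (seq j)) := HomologicalComplex.mono_of_mono_f _ (hι' j (seq j))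
    exact { exact := ShortComplex.exact_cokernel _ }
  have hiso : ∀ j, n ≤ j → IsZero (seq (j + 1)) := fun j hj => by
    have := hι'' j (seq j) (by omega)
    exact isZero_cokernel_of_epi (ι' j (seq j))
  have hJ' : ∀ j, j < n → ∀ k, P ((S j).X₂.X k) := fun j hj k =>
    prop_of_iso h1 h2 (eqToIso (congrArg (fun Z : CochainComplex A ℤ => Z.X k) (if_pos hj).symm)) (hJ _ k)
  have hn' : ∀ k, P ((seq n).X k) := by
    intro k
    let d : ∀ j, (S j).X₂.X k ⟶ (S (j + 1)).X₂.X k := fun j =>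
      (cokernel.π (ι' j (seq j))).f k ≫ (ι' (j + 1) (seq (j + 1))).f k
    let K : CochainComplex A ℕ := CochainComplex.of (fun j => (S j).X₂.X k) d (fun j => by
      have := HomologicalComplex.congr_hom (cokernel.condition (ι' (j + 1) (seq (j + 1)))) k
      dsimp at this
      simp only [d, Category.assoc]
      erw [reassoc_of% this, zero_comp, comp_zero])
    have hKd : ∀ j, K.d j (j + 1) = d j := fun j => by simp [K]
    have hep : ∀ j, Epi ((cokernel.π (ι' j (seq j))).f k) := fun j =>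
      inferInstanceAs (Epi ((HomologicalComplex.eval A _ k).map (cokernel.π (ι' j (seq j)))))
    have hex : ∀ j, 1 ≤ j → K.ExactAt j := by
      intro j hj
      obtain ⟨i, rfl⟩ : ∃ i, j = i + 1 := ⟨j - 1, by omega⟩
      rw [K.exactAt_iff' i (i + 1) (i + 1 + 1) (by simp) (by simp),
        ShortComplex.exact_iff_exact_up_to_refinements]
      intro T x hx
      replace hx : x ≫ K.d (i + 1) (i + 1 + 1) = 0 := hx
      rw [hKd] at hx
      have : Mono ((ι' (i + 1 + 1) (seq (i + 1 + 1))).f k) := hι' _ _ k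
      have hx' : (show T ⟶ (S (i + 1)).X₂.X k from x) ≫ (cokernel.π (ι' (i + 1) (seq (i + 1)))).f k = 0 := by
        rw [← cancel_mono ((ι' (i + 1 + 1) (seq (i + 1 + 1))).f k), zero_comp, Category.assoc]
        exact hx
      obtain ⟨T', π, hπ, c, hc⟩ := (ShortComplex.exact_iff_exact_up_to_refinements _).1
        ((hS (i + 1)).exact.map (HomologicalComplex.eval A _ k)) x hx'
      have := hep i
      obtain ⟨T'', π', hπ', y, hy⟩ :=
        surjective_up_to_refinements_of_epi ((cokernel.π (ι' i (seq i))).f k) c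
      refine ⟨T'', π' ≫ π, inferInstance, y, ?_⟩
      show (π' ≫ π) ≫ x = y ≫ K.d i (i + 1)
      rw [hKd]
      refine (Category.assoc _ _ _).trans ((congrArg (π' ≫ ·) hc).trans ?_)
      exact (Category.assoc _ _ _).symm.trans ((congrArg (· ≫ (ι' (i + 1) (seq (i + 1))).f k) hy).trans
        (Category.assoc _ _ _))
    have hz : ∀ j, n < j → IsZero (K.X j) := fun j hj => by
      have := hι'' j (seq j) (by omega)
      obtain ⟨i, rfl⟩ : ∃ i, j = i + 1 := ⟨j - 1, by omega⟩
      exact ((HomologicalComplex.eval A _ k).map_isZero ((hiso i (by omega)).of_iso (asIso (ι' (i + 1) (seq (i + 1)))).symm))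
    have hep' : Epi (K.d (n - 1) n) := by
      obtain ⟨i, rfl⟩ : ∃ i, n = i + 1 := ⟨n - 1, by omega⟩
      have := hι'' (i + 1) (seq (i + 1)) (by omega)
      have := hep i
      rw [show i + 1 - 1 = i by omega, hKd]
      have : IsIso ((ι' (i + 1) (seq (i + 1))).f k) :=
        inferInstanceAs (IsIso ((HomologicalComplex.eval A _ k).map (ι' (i + 1) (seq (i + 1)))))
      exact epi_comp _ _
    have := hι'' n (seq n) (lt_irrefl n)
    exact prop_of_iso h1 h2 ((HomologicalComplex.eval A _ k).mapIso (asIso (ι' n (seq n))).symm)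
      (h3 K (fun j hj _ => hex j hj) hz hep' (fun j hj => hJ' j hj k))
  have key : ∀ m j, j + m = n → ∃ (I : CochainComplex A ℤ) (f : seq j ⟶ I), QuasiIso f ∧ ∀ k, P (I.X k) := by
    intro m
    induction m with
    | zero => intro j hj; obtain rfl : j = n := by omega
              exact ⟨_, 𝟙 _, inferInstance, hn'⟩
    | succ m ih =>
      intro j hj
      obtain ⟨C', q, hq, hC'⟩ := ih (j + 1) (by omega)
      exact exists_step h1 h2 (S j) (hS j) (hJ' j (by omega)) q hq hC'
  exact key n 0 (by omega)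

end Steps

end Groth.Agent.ClassUnb
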